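import Mathlib
import Groth.Agent.Lib.Helper2.QuasiReg2

set_option autoImplicit false

namespace Groth.Agent.H5.RegPoly

open MvPolynomial

section
variable {R : Type*} {A : Type*} [CommRing R] [CommRing A] [Algebra R A] {d : ℕ}
  (f : Fin d → A) (N : ℕ)

/-- The ideal generated by the sequence. -/
abbrev JJ : Ideal A := Ideal.span (Set.range f)

/-- The image of `J` in `A ⧸ J ^ N`. -/
abbrev JQ : Ideal (A ⧸ JJ f ^ N) := (JJ f).map (Ideal.Quotient.mk (JJ f ^ N))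

lemma JQ_pow (k : ℕ) : JQ f N ^ k = (JJ f ^ k).map (Ideal.Quotient.mk (JJ f ^ N)) :=
  (Ideal.map_pow _ _ _).symm

lemma JQ_pow_eq_bot : JQ f N ^ N = ⊥ := by
  rw [JQ_pow, Ideal.map_quotient_self]

lemma mk_mem_JQ (i : Fin d) : Ideal.Quotient.mk (JJ f ^ N) (f i) ∈ JQ f N :=
  Ideal.mem_map_of_mem _ (Ideal.subset_span ⟨i, rfl⟩)

lemma mem_pow_of_mk_mem {k : ℕ} (hk : k ≤ N) {a : A}
    (h : Ideal.Quotient.mk (JJ f ^ N) a ∈ JQ f N ^ k) : a ∈ JJ f ^ k := by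
  rw [JQ_pow, ← Ideal.mem_comap, Ideal.comap_map_of_surjective _ Ideal.Quotient.mk_surjective,
    ← RingHom.ker_eq_comap_bot, Ideal.mk_ker, sup_eq_left.mpr (Ideal.pow_le_pow_right hk)] at h
  exact h

variable (R) in
/-- The projection `A ⧸ J ^ N → A ⧸ J`. -/
noncomputable def proj (hN : 1 ≤ N) : (A ⧸ JJ f ^ N) →ₐ[R] (A ⧸ JJ f) :=
  Ideal.Quotient.factorₐ R (Ideal.pow_le_self (by omega))

@[simp] lemma proj_mk (hN : 1 ≤ N) (a : A) :
    proj R f N hN (Ideal.Quotient.mk _ a) = Ideal.Quotient.mk _ a := rfl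

lemma proj_surjective (hN : 1 ≤ N) : Function.Surjective (proj R f N hN) := by
  intro b
  obtain ⟨a, rfl⟩ := Ideal.Quotient.mk_surjective b
  exact ⟨Ideal.Quotient.mk _ a, rfl⟩

lemma ker_proj (hN : 1 ≤ N) : RingHom.ker (proj R f N hN : (A ⧸ JJ f ^ N) →+* (A ⧸ JJ f)) = JQ f N := by
  apply le_antisymm
  · intro y hy
    obtain ⟨a, rfl⟩ := Ideal.Quotient.mk_surjective y
    rw [RingHom.mem_ker] at hy
    have : Ideal.Quotient.mk (JJ f) a = 0 := hy
    rw [Ideal.Quotient.eq_zero_iff_mem] at this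
    exact Ideal.mem_map_of_mem _ this
  · rw [Ideal.map_le_iff_le_comap]
    intro a ha
    rw [Ideal.mem_comap, RingHom.mem_ker]
    change Ideal.Quotient.mk (JJ f) a = 0
    rwa [Ideal.Quotient.eq_zero_iff_mem]

lemma isNilpotent_ker_proj (hN : 1 ≤ N) :
    IsNilpotent (RingHom.ker (proj R f N hN : (A ⧸ JJ f ^ N) →+* (A ⧸ JJ f))) := by
  rw [ker_proj]
  exact ⟨N, JQ_pow_eq_bot f N⟩

/-- A section of the projection given by formal smoothness. -/
theorem exists_section (hN : 1 ≤ N) [Algebra.FormallySmooth R (A ⧸ JJ f)] :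
    ∃ σ : (A ⧸ JJ f) →ₐ[R] (A ⧸ JJ f ^ N), ∀ b, proj R f N hN (σ b) = b := by
  refine ⟨Algebra.FormallySmooth.liftOfSurjective (AlgHom.id R _) (proj R f N hN)
    (proj_surjective f N hN) (isNilpotent_ker_proj f N hN), fun b => ?_⟩
  rw [Algebra.FormallySmooth.liftOfSurjective_apply]
  rfl

end

end Groth.Agent.H5.RegPoly
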