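import Mathlib
import Groth.Agent.Lib.Helper5.RegPoly.A

set_option autoImplicit false

namespace Groth.Agent.H5.RegPoly

open MvPolynomial

section
variable {R : Type*} {A : Type*} [CommRing R] [CommRing A] [Algebra R A] {d : ℕ}
  (f : Fin d → A) (N : ℕ) (hN : 1 ≤ N) (σ : (A ⧸ JJ f) →ₐ[R] (A ⧸ JJ f ^ N))

/-- The comparison map `B[T] → A ⧸ J ^ N`. -/
noncomputable def phi : MvPolynomial (Fin d) (A ⧸ JJ f) →ₐ[R] (A ⧸ JJ f ^ N) :=
  aevalTower σ (fun i => Ideal.Quotient.mk _ (f i))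

@[simp] lemma phi_X (i : Fin d) : phi f N σ (X i) = Ideal.Quotient.mk _ (f i) :=
  aevalTower_X _ _ _

@[simp] lemma phi_C (b : A ⧸ JJ f) : phi f N σ (C b) = σ b :=
  aevalTower_C _ _ _

lemma phi_monomial (α : Fin d →₀ ℕ) (b : A ⧸ JJ f) :
    phi f N σ (monomial α b) = σ b * α.prod fun i k => Ideal.Quotient.mk (JJ f ^ N) (f i) ^ k := by
  rw [monomial_eq, map_mul, phi_C, Finsupp.prod, map_prod, Finsupp.prod]
  simp

lemma prod_mem_JQ_pow (α : Fin d →₀ ℕ) :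
    (α.prod fun i k => Ideal.Quotient.mk (JJ f ^ N) (f i) ^ k) ∈ JQ f N ^ α.degree := by
  classical
  rw [Finsupp.prod, Finsupp.degree_apply, ← Finset.prod_pow_eq_pow_sum]
  exact Ideal.prod_mem_prod fun i _ => Ideal.pow_mem_pow (mk_mem_JQ f N i) _

lemma phi_mem_of_mem {k : ℕ} {p : MvPolynomial (Fin d) (A ⧸ JJ f)}
    (hp : p ∈ idealOfVars (Fin d) (A ⧸ JJ f) ^ k) : phi f N σ p ∈ JQ f N ^ k := by
  rw [p.as_sum, map_sum]
  refine Ideal.sum_mem _ fun α hα => ?_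
  rw [phi_monomial]
  refine Ideal.mul_mem_left _ _ ?_
  exact Ideal.pow_le_pow_right ((mem_pow_idealOfVars_iff k p).mp hp α hα) (prod_mem_JQ_pow f N α)

/-- Evaluation `A[T] → A ⧸ J ^ N`. -/
noncomputable def ev : MvPolynomial (Fin d) A →+* (A ⧸ JJ f ^ N) :=
  (Ideal.Quotient.mk (JJ f ^ N)).comp (eval f)

lemma ev_monomial (α : Fin d →₀ ℕ) (a : A) :
    ev f N (monomial α a) =
      Ideal.Quotient.mk _ a * α.prod fun i k => Ideal.Quotient.mk (JJ f ^ N) (f i) ^ k := by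
  rw [ev, RingHom.comp_apply, eval_monomial, map_mul, Finsupp.prod, map_prod, Finsupp.prod]
  simp

include hN in
lemma sigma_sub_mem (hσ : ∀ b, proj R f N hN (σ b) = b) (a : A) :
    σ (Ideal.Quotient.mk _ a) - Ideal.Quotient.mk _ a ∈ JQ f N := by
  rw [← ker_proj (R := R) f N hN, RingHom.mem_ker, map_sub]
  change proj R f N hN (σ (Ideal.Quotient.mk _ a)) - proj R f N hN (Ideal.Quotient.mk _ a) = 0
  rw [hσ, proj_mk, sub_self]

include hN in
/-- The two maps `A[T] → A ⧸ J ^ N` agree modulo one more power of `J`. -/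
lemma phi_map_sub_ev_mem (hσ : ∀ b, proj R f N hN (σ b) = b) {k : ℕ} {P : MvPolynomial (Fin d) A}
    (hP : P ∈ idealOfVars (Fin d) A ^ k) :
    phi f N σ (map (Ideal.Quotient.mk (JJ f)) P) - ev f N P ∈ JQ f N ^ (k + 1) := by
  rw [P.as_sum, map_sum, map_sum, map_sum, ← Finset.sum_sub_distrib]
  refine Ideal.sum_mem _ fun α hα => ?_
  rw [map_monomial, phi_monomial, ev_monomial, ← sub_mul, pow_succ']
  refine Ideal.mul_mem_mul (sigma_sub_mem f N hN σ hσ _) ?_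
  exact Ideal.pow_le_pow_right ((mem_pow_idealOfVars_iff k P).mp hP α hα) (prod_mem_JQ_pow f N α)

lemma ev_surjective : Function.Surjective (ev f N) := by
  intro y
  obtain ⟨a, rfl⟩ := Ideal.Quotient.mk_surjective y
  exact ⟨C a, by simp [ev]⟩

lemma map_ev_idealOfVars : (idealOfVars (Fin d) A).map (ev f N) = JQ f N := by
  rw [Ideal.map_span, JQ, Ideal.map_span]
  congr 1
  ext y
  simp [ev]

lemma exists_mem_pow_ev_eq {k : ℕ} {y : A ⧸ JJ f ^ N} (hy : y ∈ JQ f N ^ k) :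
    ∃ P ∈ idealOfVars (Fin d) A ^ k, ev f N P = y := by
  rw [← map_ev_idealOfVars, ← Ideal.map_pow] at hy
  exact (Ideal.mem_map_iff_of_surjective _ (ev_surjective f N)).mp hy

end

end Groth.Agent.H5.RegPoly
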