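import Mathlib
import Groth.Agent.Lib.Helper5.RegPoly.B
import Groth.Agent.Lib.Helper5.GrSym.C

set_option autoImplicit false

namespace Groth.Agent.H5.RegPoly

open MvPolynomial

section
variable {R : Type*} {A : Type*} [CommRing R] [CommRing A] [Algebra R A] {d : ℕ}
  (f : Fin d → A) (N : ℕ) (hN : 1 ≤ N) (σ : (A ⧸ JJ f) →ₐ[R] (A ⧸ JJ f ^ N))
  (hσ : ∀ b, proj R f N hN (σ b) = b)

include hN hσ in
/-- The quasi-regularity step. -/
lemma eq_zero_of_isHomogeneous (hq : CAlgX.IsQuasiRegular f) {k : ℕ} (hk : k + 1 ≤ N)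
    {p : MvPolynomial (Fin d) (A ⧸ JJ f)} (hp : p.IsHomogeneous k)
    (h : phi f N σ p ∈ JQ f N ^ (k + 1)) : p = 0 := by
  classical
  let s := Function.surjInv (Ideal.Quotient.mk_surjective (I := JJ f))
  have hs : ∀ b, Ideal.Quotient.mk (JJ f) (s b) = b :=
    Function.surjInv_eq (Ideal.Quotient.mk_surjective (I := JJ f))
  let P : MvPolynomial (Fin d) A := ∑ α ∈ p.support, monomial α (s (coeff α p))
  have hPmap : map (Ideal.Quotient.mk (JJ f)) P = p := by
    simp only [P, map_sum, map_monomial, hs]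
    exact p.as_sum.symm
  have hPhom : P.IsHomogeneous k := by
    refine IsHomogeneous.sum _ _ _ fun α hα => isHomogeneous_monomial _ ?_
    by_contra hne
    exact (mem_support_iff.mp hα) (hp.coeff_eq_zero hne)
  have h1 := phi_map_sub_ev_mem f N hN σ hσ (GrSym.isHomogeneous_mem_pow hPhom)
  rw [hPmap] at h1
  have h2 : ev f N P ∈ JQ f N ^ (k + 1) := by
    have := sub_mem h h1
    rwa [sub_sub_cancel] at this
  have h3 : eval f P ∈ JJ f ^ (k + 1) := mem_pow_of_mk_mem f N hk h2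
  have h4 := hq k P hPhom h3
  rw [← hPmap]
  ext α
  rw [coeff_map, coeff_zero, Ideal.Quotient.eq_zero_iff_mem]
  exact h4 α

include hN hσ in
/-- `φ⁻¹ (J^k) = (T)^k` for `k ≤ N`. -/
theorem mem_pow_of_phi_mem (hq : CAlgX.IsQuasiRegular f) :
    ∀ k : ℕ, k ≤ N → ∀ p : MvPolynomial (Fin d) (A ⧸ JJ f),
      phi f N σ p ∈ JQ f N ^ k → p ∈ idealOfVars (Fin d) (A ⧸ JJ f) ^ k := by
  intro k
  induction k with
  | zero => intro _ p _; simp
  | succ k ih =>
    intro hk p hp
    have hpk : p ∈ idealOfVars (Fin d) (A ⧸ JJ f) ^ k :=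
      ih (by omega) p (Ideal.pow_le_pow_right (Nat.le_succ k) hp)
    have hr := GrSym.sub_hc_mem hpk
    have hr' := phi_mem_of_mem f N σ hr
    have h0 : phi f N σ (homogeneousComponent k p) ∈ JQ f N ^ (k + 1) := by
      have := sub_mem hp hr'
      rwa [← map_sub, sub_sub_cancel] at this
    have hz := eq_zero_of_isHomogeneous f N hN σ hσ hq hk
      (homogeneousComponent_isHomogeneous k p) h0
    rwa [hz, sub_zero] at hr

include hN hσ in
theorem exists_sub_phi_mem :
    ∀ k : ℕ, ∀ a : A ⧸ JJ f ^ N, ∃ p : MvPolynomial (Fin d) (A ⧸ JJ f),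
      a - phi f N σ p ∈ JQ f N ^ k := by
  intro k
  induction k with
  | zero => intro a; exact ⟨0, by simp⟩
  | succ k ih =>
    intro a
    obtain ⟨q, hq⟩ := ih a
    obtain ⟨P, hP, hPe⟩ := exists_mem_pow_ev_eq f N hq
    refine ⟨q + map (Ideal.Quotient.mk (JJ f)) P, ?_⟩
    have h1 := phi_map_sub_ev_mem f N hN σ hσ hP
    rw [hPe] at h1
    have : a - phi f N σ (q + map (Ideal.Quotient.mk (JJ f)) P) =
        -(phi f N σ (map (Ideal.Quotient.mk (JJ f)) P) - (a - phi f N σ q)) := by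
      rw [map_add]; ring
    rw [this]
    exact neg_mem h1

include hN hσ in
theorem phi_surjective : Function.Surjective (phi f N σ) := by
  intro a
  obtain ⟨p, hp⟩ := exists_sub_phi_mem f N hN σ hσ N a
  rw [JQ_pow_eq_bot, Ideal.mem_bot, sub_eq_zero] at hp
  exact ⟨p, hp.symm⟩

include hN hσ in
theorem ker_phi (hq : CAlgX.IsQuasiRegular f) (p : MvPolynomial (Fin d) (A ⧸ JJ f)) :
    phi f N σ p = 0 ↔ p ∈ idealOfVars (Fin d) (A ⧸ JJ f) ^ N := by
  constructor
  · intro h
    exact mem_pow_of_phi_mem f N hN σ hσ hq N le_rfl p (by rw [h]; exact Ideal.zero_mem _)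
  · intro h
    have := phi_mem_of_mem f N σ h
    rwa [JQ_pow_eq_bot, Ideal.mem_bot] at this

end

end Groth.Agent.H5.RegPoly
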