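import Mathlib
import Groth.Agent.Lib.Helper5.RegPoly.C

set_option autoImplicit false

namespace Groth.Agent.H5.RegPoly

open MvPolynomial

section
variable {R : Type*} {A : Type*} [CommRing R] [CommRing A] [Algebra R A] {d : ℕ}
  (f : Fin d → A) (N : ℕ)

theorem main_qr (hq : CAlgX.IsQuasiRegular f) [Algebra.FormallySmooth R (A ⧸ JJ f)] (hN : 1 ≤ N) :
    ∃ e : (A ⧸ JJ f ^ N) ≃ₐ[R]
        (MvPolynomial (Fin d) (A ⧸ JJ f) ⧸ idealOfVars (Fin d) (A ⧸ JJ f) ^ N),
      (∀ i : Fin d, e (Ideal.Quotient.mk _ (f i)) = Ideal.Quotient.mk _ (X i)) ∧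
      ∀ a : A, e (Ideal.Quotient.mk _ a) - Ideal.Quotient.mk _ (C (Ideal.Quotient.mk _ a)) ∈
        (idealOfVars (Fin d) (A ⧸ JJ f)).map (Ideal.Quotient.mk _) := by
  obtain ⟨σ, hσ⟩ := exists_section (R := R) f N hN
  let φb : (MvPolynomial (Fin d) (A ⧸ JJ f) ⧸ idealOfVars (Fin d) (A ⧸ JJ f) ^ N) →ₐ[R]
      (A ⧸ JJ f ^ N) :=
    Ideal.Quotient.liftₐ _ (phi f N σ) fun p hp => (ker_phi f N hN σ hσ hq p).mpr hp
  have hφb : ∀ p, φb (Ideal.Quotient.mk _ p) = phi f N σ p := fun p => rfl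
  have hb : Function.Bijective φb := by
    constructor
    · rw [injective_iff_map_eq_zero]
      intro y hy
      obtain ⟨p, rfl⟩ := Ideal.Quotient.mk_surjective y
      rw [hφb] at hy
      rw [Ideal.Quotient.eq_zero_iff_mem]
      exact (ker_phi f N hN σ hσ hq p).mp hy
    · intro a
      obtain ⟨p, rfl⟩ := phi_surjective f N hN σ hσ a
      exact ⟨Ideal.Quotient.mk _ p, hφb p⟩
  let E := AlgEquiv.ofBijective φb hb
  have hE : ∀ y, E y = φb y := fun y => rfl
  refine ⟨E.symm, fun i => ?_, fun a => ?_⟩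
  · rw [AlgEquiv.symm_apply_eq, hE, hφb, phi_X]
  · obtain ⟨p, hp⟩ := Ideal.Quotient.mk_surjective (E.symm (Ideal.Quotient.mk _ a))
    rw [← hp, ← map_sub]
    refine Ideal.mem_map_of_mem _ ?_
    have h1 : phi f N σ p = Ideal.Quotient.mk _ a := by
      rw [← hφb, hp, ← hE, AlgEquiv.apply_symm_apply]
    -- constant coefficient
    have h2 : ∀ q : MvPolynomial (Fin d) (A ⧸ JJ f),
        proj R f N hN (phi f N σ q) = constantCoeff q := by
      intro q
      induction q using MvPolynomial.induction_on with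
      | C b => rw [phi_C, hσ, constantCoeff_C]
      | add q₁ q₂ h₁ h₂ => rw [map_add, map_add, map_add, h₁, h₂]
      | mul_X q i h =>
        have hz : Ideal.Quotient.mk (JJ f) (f i) = 0 :=
          Ideal.Quotient.eq_zero_iff_mem.mpr (Ideal.subset_span ⟨i, rfl⟩)
        rw [map_mul, map_mul, map_mul, phi_X, proj_mk, constantCoeff_X, mul_zero, hz, mul_zero]
    have h3 : constantCoeff p = Ideal.Quotient.mk (JJ f) a := by
      rw [← h2, h1, proj_mk]
    have : p - C (Ideal.Quotient.mk (JJ f) a) ∈ idealOfVars (Fin d) (A ⧸ JJ f) ^ 1 := by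
      rw [mem_pow_idealOfVars_iff']
      intro α hα
      have : α = 0 := by
        rw [← Finsupp.degree_eq_zero_iff]; omega
      subst this
      rw [coeff_sub, ← constantCoeff_eq, h3, constantCoeff_C, sub_self]
    simpa using this

end

end Groth.Agent.H5.RegPoly
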